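import Groth.Agent.L06.BlowComp.Local
import Groth.Agent.L17.ThickBasic
import Groth.Agent.L22.BlowUp

/-!
A composition of blowings up is a blowing up.
-/

set_option autoImplicit false
set_option linter.style.haveILetI false
set_option backward.isDefEq.respectTransparency false
set_option backward.isDefEq.respectTransparency.types false
universe u

open CategoryTheory CategoryTheory.Limits AlgebraicGeometry TopologicalSpace Opposite
open Groth.L22
open Groth.L19.Approx (FGOn)

noncomputable section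

namespace Groth.L06.BlowComp

variable {X X' : Scheme.{u}} {𝓘 : X.IdealSheafData} {b : X' ⟶ X} (hb : BlowUp.IsBlowUp b 𝓘)

theorem isFiniteType_pow {I : X.IdealSheafData} (h : BlowUp.IsFiniteTypeIdeal I) (n : ℕ) :
    BlowUp.IsFiniteTypeIdeal (I ^ n) := fun V => by
  rw [Scheme.IdealSheafData.ideal_pow, Pi.pow_apply]
  exact Ideal.FG.pow (h V)

theorem isEffCartier_pow_succ {D : X.IdealSheafData} (hD : BlowUp.IsEffCartierIdeal D) (n : ℕ) :
    BlowUp.IsEffCartierIdeal (D ^ (n + 1)) := by
  induction n with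
  | zero => rwa [zero_add, pow_one]
  | succ n ih => rw [pow_succ]; exact Ideals.isEffCartier_mul ih hD

include hb in
/-- Up to a power of the exceptional ideal an ideal of finite type is pulled back from the base. -/
theorem exists_comap_eq [CompactSpace X] [QuasiSeparatedSpace X] (h𝓘 : BlowUp.IsFiniteTypeIdeal 𝓘)
    {J : X'.IdealSheafData} (hJ : BlowUp.IsFiniteTypeIdeal J) :
    ∃ (n : ℕ) (K : X.IdealSheafData), BlowUp.IsFiniteTypeIdeal K ∧ K.comap b = J * 𝓘.comap b ^ (n + 1) := by
  classical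
  haveI := Groth.L13.BU.isProper_blowUp hb h𝓘
  haveI : CompactSpace X' := QuasiCompact.compactSpace_of_compactSpace b
  choose V n K hzV hKfg hKle hKV using fun z : X' => exists_local hb h𝓘 hJ z
  obtain ⟨t, ht⟩ := isCompact_univ.elim_finite_subcover (fun z => ((V z).1 : Set X')) (fun z => (V z).1.2)
    fun z _ => Set.mem_iUnion.2 ⟨z, hzV z⟩
  let N := t.sup n
  let E := 𝓘.comap b
  let K₀ := t.sup fun z => K z * 𝓘 ^ (N - n z)
  have hle : K₀.comap b ≤ J * E ^ (N + 1) := by
    rw [← Scheme.IdealSheafData.le_map_iff_comap_le]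
    refine Finset.sup_le fun z hz => ?_
    rw [Scheme.IdealSheafData.le_map_iff_comap_le, Ideals.comap_mul, Groth.L17.Thick.comap_pow]
    refine (mul_le_mul_left (Scheme.IdealSheafData.le_map_iff_comap_le.1 (hKle z)) _).trans ?_
    have h1 : n z ≤ N := Finset.le_sup hz
    rw [mul_assoc, ← pow_add, show n z + 1 + (N - n z) = N + 1 by omega]
  refine ⟨N, K₀, ?_, le_antisymm hle ?_⟩
  · have : FGOn K₀ ⊤ := Finset.sup_induction (p := fun K => FGOn K ⊤) (Groth.L19.Approx.fgOn_bot ⊤)
      (fun _ h _ h' => Groth.L19.Approx.FGOn.sup h h') fun z _ W hW => by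
        rw [Scheme.IdealSheafData.ideal_mul, Pi.mul_apply]
        exact (hKfg z W hW).mul (isFiniteType_pow h𝓘 _ W)
    exact fun W => this W le_top
  · refine Scheme.IdealSheafData.le_of_iSup_eq_top (fun z : t => V z.1) (eq_top_iff.2 fun y _ => ?_) fun z => ?_
    · obtain ⟨z, hz, hy⟩ := Set.mem_iUnion₂.1 (ht (Set.mem_univ y))
      exact Opens.mem_iSup.2 ⟨⟨z, hz⟩, hy⟩
    · have h1 : n z.1 ≤ N := Finset.le_sup z.2
      have h2 : (K z.1 * 𝓘 ^ (N - n z.1)).comap b ≤ K₀.comap b :=
        Scheme.IdealSheafData.comap_mono b (Finset.le_sup (f := fun z => K z * 𝓘 ^ (N - n z)) z.2)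
      refine le_trans ?_ (h2 (V z.1))
      rw [show N + 1 = n z.1 + 1 + (N - n z.1) by omega, pow_add, ← mul_assoc, Ideals.comap_mul,
        Groth.L17.Thick.comap_pow]
      simp only [Scheme.IdealSheafData.ideal_mul, Pi.mul_apply]
      exact Ideal.mul_mono_left (by simpa only [Scheme.IdealSheafData.ideal_mul, Pi.mul_apply] using hKV z.1)

include hb in
/-- A composition of blowings up in ideals of finite type is a blowing up. -/
theorem exists_isBlowUp_comp [CompactSpace X] [QuasiSeparatedSpace X] (h𝓘 : BlowUp.IsFiniteTypeIdeal 𝓘)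
    {X'' : Scheme.{u}} {𝓙 : X'.IdealSheafData} (h𝓙 : BlowUp.IsFiniteTypeIdeal 𝓙) {b' : X'' ⟶ X'}
    (hb' : BlowUp.IsBlowUp b' 𝓙) :
    ∃ 𝓚 : X.IdealSheafData, BlowUp.IsFiniteTypeIdeal 𝓚 ∧
      (𝓚.support : Set X) = (𝓘.support : Set X) ∪ (fun x' => b x') '' (𝓙.support : Set X') ∧
      BlowUp.IsBlowUp (b' ≫ b) 𝓚 := by
  obtain ⟨n, K, hK, hKc⟩ := exists_comap_eq hb h𝓘 h𝓙
  have hD : BlowUp.IsEffCartierIdeal (𝓘.comap b ^ (n + 1)) := isEffCartier_pow_succ hb.1 n
  have hb'' : BlowUp.IsBlowUp b' (K.comap b) := by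
    rw [hKc]
    refine ⟨?_, fun Y g hg => hb'.2 Y g ?_⟩
    · rw [Ideals.comap_mul]
      exact Ideals.isEffCartier_mul hb'.1 (Ideals.isEffCartier_comap hb' hD)
    · rw [Ideals.comap_mul] at hg
      exact Ideals.isEffCartier_left_of_mul hg
  have hpre : b ⁻¹' (K.support : Set X) = (𝓙.support : Set X') ∪ b ⁻¹' (𝓘.support : Set X) := by
    have h1 := congrArg (fun M : X'.IdealSheafData => (M.support : Set X')) hKc
    simp only [Scheme.IdealSheafData.support_comap, Scheme.IdealSheafData.support_mul] at h1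
    rw [Scheme.IdealSheafData.support_pow _ _ n.succ_ne_zero, Scheme.IdealSheafData.support_comap] at h1
    exact h1
  refine ⟨𝓘 * K, fun V => ?_, ?_, ?_⟩
  · rw [Scheme.IdealSheafData.ideal_mul, Pi.mul_apply]
    exact (h𝓘 V).mul (hK V)
  · rw [Scheme.IdealSheafData.support_mul]
    refine Set.ext fun x => ?_
    constructor
    · rintro (hx | hx)
      · exact Or.inl hx
      by_cases hxI : x ∈ 𝓘.support
      · exact Or.inl hxI
      haveI := Ideals.isIso_restrict_compl hb
      obtain ⟨x', hx'⟩ := (b ∣_ 𝓘.support.compl).surjective ⟨x, hxI⟩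
      have hbx : b x'.1 = x :=
        (congrArg (fun f : (b ⁻¹ᵁ 𝓘.support.compl).toScheme ⟶ X => f x') (morphismRestrict_ι b 𝓘.support.compl)).symm.trans
          (congrArg Subtype.val hx')
      have : x'.1 ∈ b ⁻¹' (K.support : Set X) := show b x'.1 ∈ K.support by rw [hbx]; exact hx
      rw [hpre] at this
      rcases this with h | h
      · exact Or.inr ⟨x'.1, h, hbx⟩
      · exact absurd (hbx ▸ h) hxI
    · rintro (hx | ⟨x', hx', rfl⟩)
      · exact Or.inl hx
      · exact Or.inr (hpre.ge (Or.inl hx'))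
  · refine ⟨?_, fun Y g hg => ?_⟩
    · rw [Ideals.comap_mul, Scheme.IdealSheafData.comap_comp, Scheme.IdealSheafData.comap_comp]
      exact Ideals.isEffCartier_mul (Ideals.isEffCartier_comap hb' hb.1) hb''.1
    · rw [Ideals.comap_mul] at hg
      obtain ⟨h, hh, huniq⟩ := hb.2 Y g (Ideals.isEffCartier_left_of_mul hg)
      have hh' : h ≫ b = g := hh
      obtain ⟨l, hl, huniq'⟩ := hb''.2 Y h (by
        rw [← Scheme.IdealSheafData.comap_comp, hh']
        exact Ideals.isEffCartier_left_of_mul (mul_comm (𝓘.comap g) _ ▸ hg))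
      refine ⟨l, show l ≫ b' ≫ b = g by rw [reassoc_of% (show l ≫ b' = h from hl), hh'], fun k hk => huniq' k ?_⟩
      exact huniq _ (by simpa only [Category.assoc] using hk)

end Groth.L06.BlowComp
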