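import Groth.Agent.L06.BlowProj
import Groth.Agent.L13.BlowUp.Proper
import Groth.Agent.L19.Approx.IdealExt

/-!
Ideals on a blowing up come, after twisting by a power of the exceptional ideal, from the base.
-/

set_option autoImplicit false
set_option linter.style.haveILetI false
set_option backward.isDefEq.respectTransparency false
set_option backward.isDefEq.respectTransparency.types false
universe u

open CategoryTheory CategoryTheory.Limits AlgebraicGeometry TopologicalSpace Opposite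
open Groth.L13.BU Groth.L22
open Groth.L19.Approx (FGOn exists_fgOn_mem)

noncomputable section

namespace Groth.L06.BlowComp

/-- The ideal cut out on an affine chart. -/
def idAt {Z : Scheme.{u}} {C : Type u} [CommRing C] (j : Spec (CommRingCat.of C) ⟶ Z) (M : Z.IdealSheafData) :
    Ideal C :=
  ((M.comap j).ideal ⟨⊤, isAffineOpen_top _⟩).map (Scheme.ΓSpecIso (CommRingCat.of C)).hom.hom

theorem comap_eq_idealOf {Z : Scheme.{u}} {C : Type u} [CommRing C] (j : Spec (CommRingCat.of C) ⟶ Z)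
    (M : Z.IdealSheafData) : M.comap j = idealOf (idAt j M) := by
  refine Scheme.IdealSheafData.ext_of_isAffine ?_
  rw [idealOf_top, idAt, Ideal.map_map, ← CommRingCat.hom_comp, Iso.hom_inv_id, CommRingCat.hom_id]
  exact (Ideal.map_id _).symm

theorem idAt_idealOf {C : Type u} [CommRing C] (I : Ideal C) :
    idAt (𝟙 (Spec (CommRingCat.of C))) (idealOf I) = I := by
  rw [idAt, Scheme.IdealSheafData.comap_id, idealOf_top, Ideal.map_map, ← CommRingCat.hom_comp, Iso.inv_hom_id,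
    CommRingCat.hom_id]
  exact Ideal.map_id _

theorem idAt_comp {Z : Scheme.{u}} {B C : Type u} [CommRing B] [CommRing C] (φ : B →+* C)
    (j : Spec (CommRingCat.of B) ⟶ Z) (M : Z.IdealSheafData) :
    idAt (Spec.map (CommRingCat.ofHom φ) ≫ j) M = (idAt j M).map φ := by
  rw [idAt, Scheme.IdealSheafData.comap_comp, comap_eq_idealOf j M, comap_SpecMap, Ideal.map_map,
    ← CommRingCat.hom_comp, Iso.inv_hom_id, CommRingCat.hom_id]
  exact Ideal.map_id _

theorem idAt_mul {Z : Scheme.{u}} {C : Type u} [CommRing C] (j : Spec (CommRingCat.of C) ⟶ Z)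
    (M N : Z.IdealSheafData) : idAt j (M * N) = idAt j M * idAt j N := by
  simp only [idAt, Ideals.comap_mul, Scheme.IdealSheafData.ideal_mul, Pi.mul_apply, Ideal.map_mul]

theorem idAt_mono {Z : Scheme.{u}} {C : Type u} [CommRing C] (j : Spec (CommRingCat.of C) ⟶ Z)
    {M N : Z.IdealSheafData} (h : M ≤ N) : idAt j M ≤ idAt j N :=
  Ideal.map_mono (Scheme.IdealSheafData.comap_mono j h _)

theorem idAt_pow_succ {Z : Scheme.{u}} {C : Type u} [CommRing C] (j : Spec (CommRingCat.of C) ⟶ Z)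
    (M : Z.IdealSheafData) (n : ℕ) : idAt j (M ^ (n + 1)) = idAt j M ^ (n + 1) := by
  induction n with
  | zero => simp
  | succ n ih => rw [pow_succ M, pow_succ (idAt j M), idAt_mul, ih]

theorem idAt_comap {Z W : Scheme.{u}} {C : Type u} [CommRing C] (j : Spec (CommRingCat.of C) ⟶ Z) (f : Z ⟶ W)
    (M : W.IdealSheafData) : idAt j (M.comap f) = idAt (j ≫ f) M := by
  rw [idAt, idAt, Scheme.IdealSheafData.comap_comp]

theorem mon_mem_of_span {A : Type u} [CommRing A] (I : Ideal A) {S : Set A} (hS : Ideal.span S = I)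
    (P : Ideal (reesAlgebra I)) (h : ∀ x ∈ S, ∀ hx : x ∈ I ^ 1, mon I 1 x hx ∈ P) (a : A) (ha : a ∈ I ^ 1) :
    mon I 1 a ha ∈ P := by
  let Q : Ideal A :=
    { carrier := {x | ∃ hx : x ∈ I ^ 1, mon I 1 x hx ∈ P}
      zero_mem' := ⟨zero_mem _, by
        rw [show mon I 1 0 (zero_mem _) = 0 from Subtype.ext (map_zero _)]
        exact zero_mem _⟩
      add_mem' := fun {x y} ⟨hx, hx'⟩ ⟨hy, hy'⟩ => ⟨add_mem hx hy, by
        rw [show mon I 1 (x + y) (add_mem hx hy) = mon I 1 x hx + mon I 1 y hy from Subtype.ext (map_add _ _ _)]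
        exact add_mem hx' hy'⟩
      smul_mem' := fun r x ⟨hx, hx'⟩ => ⟨Submodule.smul_mem _ r hx, by
        rw [show mon I 1 (r • x) (Submodule.smul_mem _ r hx) = r • mon I 1 x hx from Subtype.ext (map_smul _ _ _),
          Algebra.smul_def]
        exact Ideal.mul_mem_left _ _ hx'⟩ }
  have hle : Ideal.span S ≤ Q := Ideal.span_le.2 fun x hx =>
    ⟨by simpa using hS.le (Ideal.subset_span hx), h x hx _⟩
  obtain ⟨_, h'⟩ := hle (hS.ge (by simpa using ha : a ∈ I))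
  exact h'

theorem idAt_ι {X : Scheme.{u}} {U : X.Opens} (hU : IsAffineOpen U) (M : X.IdealSheafData) :
    idAt hU.fromSpec M = M.ideal ⟨U, hU⟩ := by
  have h : M.comap hU.fromSpec = idealOf (BlowProj.J M U hU) := by
    rw [BlowProj.idealOf_J M hU, ← Scheme.IdealSheafData.comap_comp, hU.isoSpec_inv_ι]
  rw [idAt, h, idealOf_top, Ideal.map_map, ← CommRingCat.hom_comp, Iso.inv_hom_id, CommRingCat.hom_id]
  exact Ideal.map_id _

/-- Containment of ideal sheaves can be checked on a cover by charts. -/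
theorem ideal_le_of_idAt {Z : Scheme.{u}} {C : Type u} [CommRing C] (j : Spec (CommRingCat.of C) ⟶ Z)
    [IsOpenImmersion j] {M N : Z.IdealSheafData} (h : idAt j M ≤ idAt j N) :
    M.ideal ⟨j.opensRange, isAffineOpen_opensRange j⟩ ≤ N.ideal ⟨j.opensRange, isAffineOpen_opensRange j⟩ := by
  have h1 : (M.comap j).ideal ⟨⊤, isAffineOpen_top _⟩ ≤ (N.comap j).ideal ⟨⊤, isAffineOpen_top _⟩ := by
    rw [comap_eq_idealOf j M, comap_eq_idealOf j N, idealOf_top, idealOf_top]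
    exact Ideal.map_mono h
  have hle : (⊤ : (Spec (CommRingCat.of C)).Opens) ≤ j ⁻¹ᵁ j.opensRange := by simp
  rw [Ideals.comap_ideal j M ⟨_, isAffineOpen_opensRange j⟩ ⟨⊤, isAffineOpen_top _⟩ hle,
    Ideals.comap_ideal j N ⟨_, isAffineOpen_opensRange j⟩ ⟨⊤, isAffineOpen_top _⟩ hle] at h1
  haveI : IsIso (j.appLE j.opensRange ⊤ hle) := by
    rw [Scheme.Hom.appLE]
    haveI := Scheme.Hom.isIso_app j j.opensRange le_rfl
    haveI : IsIso (homOfLE hle) := by
      rw [show homOfLE hle = eqToHom (by simp) from Subsingleton.elim _ _]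
      infer_instance
    infer_instance
  have h3 := Ideal.map_mono (f := (inv (j.appLE j.opensRange ⊤ hle)).hom) h1
  simp only [Ideal.map_map, ← CommRingCat.hom_comp, IsIso.hom_inv_id, CommRingCat.hom_id] at h3
  rwa [Ideal.map_id, Ideal.map_id] at h3

variable {X X' : Scheme.{u}} {𝓘 : X.IdealSheafData} {b : X' ⟶ X} (hb : BlowUp.IsBlowUp b 𝓘)
  {U : X.Opens} (hU : IsAffineOpen U)

include hb in
theorem exists_kU : ∃ k : Proj (Rees.deg (reesAlgebra (𝓘.ideal ⟨U, hU⟩))) ⟶ X', IsOpenImmersion k ∧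
    Set.range k = (b ⁻¹ᵁ U : X'.Opens) ∧ k ≫ b = reesToSpec (𝓘.ideal ⟨U, hU⟩) ≫ hU.fromSpec := by
  have h1 : BlowUp.IsBlowUp (b ∣_ U) (𝓘.comap U.ι) :=
    BlowProj.isBlowUp_of_isPullback (isPullback_morphismRestrict b U) hb
  have h2 : BlowUp.IsBlowUp (reesToSpec (BlowProj.J 𝓘 U hU) ≫ hU.isoSpec.inv) (𝓘.comap U.ι) :=
    isBlowUp_of_iso hU.isoSpec.symm _ (BlowProj.idealOf_J 𝓘 hU ▸ isBlowUp_rees (BlowProj.J 𝓘 U hU))
  obtain ⟨k, hk, -⟩ := h1.2 _ _ h2.1
  haveI := isIso_of_blowUps h1 h2 k hk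
  refine ⟨k ≫ (b ⁻¹ᵁ U).ι, inferInstance, ?_, ?_⟩
  · rw [← Scheme.Hom.coe_opensRange, Scheme.Hom.opensRange_comp_of_isIso, Scheme.Opens.opensRange_ι]
  · rw [Category.assoc, ← morphismRestrict_ι, reassoc_of% (show k ≫ b ∣_ U = _ from hk), hU.isoSpec_inv_ι]

omit hU in
theorem exists_charts_gen {A : Type u} [CommRing A] (I : Ideal A) (g : Finset A) (hg : Ideal.span (g : Set A) = I)
    (hm : ∀ c : g, c.1 ∈ I ^ 1) (f : Spec (CommRingCat.of A) ⟶ X) (k : Proj (Rees.deg (reesAlgebra I)) ⟶ X')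
    [IsOpenImmersion k] (hk : k ≫ b = reesToSpec I ≫ f) :
    ∃ j : ∀ c : g, Spec (CommRingCat.of (Chart I c.1 (hm c))) ⟶ X',
      (∀ c, IsOpenImmersion (j c)) ∧ (∀ z, z ∈ Set.range k → ∃ c, z ∈ Set.range (j c)) ∧
      ∀ c, j c ≫ b = Spec.map (CommRingCat.ofHom (chartHom I c.1 (hm c))) ≫ f := by
  classical
  refine ⟨fun c => chartι I c.1 (hm c) ≫ k, fun c => inferInstance, ?_, fun c => ?_⟩
  · rintro _ ⟨p, rfl⟩
    obtain ⟨⟨a, ha⟩, hpa⟩ := Opens.mem_iSup.1 ((iSup_chart I).ge (Set.mem_univ p))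
    rw [Proj.mem_basicOpen] at hpa
    obtain ⟨c, hc⟩ : ∃ c : g, mon I 1 c.1 (hm c) ∉ p.asHomogeneousIdeal := by
      by_contra hcon
      push Not at hcon
      exact hpa (mon_mem_of_span I hg p.asHomogeneousIdeal.toIdeal (fun x hx _ => hcon ⟨x, hx⟩) a ha)
    obtain ⟨y, hy⟩ : p ∈ (chartι I c.1 (hm c)).opensRange := by
      rw [Proj.opensRange_awayι, Proj.mem_basicOpen]; exact hc
    exact ⟨c, y, by rw [Scheme.Hom.comp_apply, hy]⟩
  · rw [Category.assoc, hk, ← Category.assoc, chartι_reesToSpec]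

include hb in
/-- The generators of the ideal give a cover by charts. -/
theorem exists_charts (g : Finset Γ(X, U)) (hg : Ideal.span (g : Set Γ(X, U)) = 𝓘.ideal ⟨U, hU⟩)
    (hm : ∀ c : g, c.1 ∈ (𝓘.ideal ⟨U, hU⟩) ^ 1) :
    ∃ j : ∀ c : g, Spec (CommRingCat.of (Chart (𝓘.ideal ⟨U, hU⟩) c.1 (hm c))) ⟶ X',
      (∀ c, IsOpenImmersion (j c)) ∧
      (∀ z, z ∈ b ⁻¹ᵁ U → ∃ c, z ∈ Set.range (j c)) ∧
      ∀ c, j c ≫ b = Spec.map (CommRingCat.ofHom (chartHom (𝓘.ideal ⟨U, hU⟩) c.1 (hm c))) ≫ hU.fromSpec := by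
  obtain ⟨k, hk1, hk2, hk3⟩ := exists_kU hb hU
  obtain ⟨j, h1, h2, h3⟩ := exists_charts_gen (𝓘.ideal ⟨U, hU⟩) g hg hm hU.fromSpec k hk3
  exact ⟨j, h1, fun z hz => h2 z (hk2.ge hz), h3⟩

/-- A section with image in an ideal on a cover lies in the pushed forward ideal. -/
theorem mem_map_of_charts [QuasiCompact b] (M : X'.IdealSheafData) (y : Γ(X, U)) {ι : Type*} (C : ι → Type u)
    [∀ c, CommRing (C c)] (j : ∀ c, Spec (CommRingCat.of (C c)) ⟶ X') [∀ c, IsOpenImmersion (j c)]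
    (φ : ∀ c, Γ(X, U) →+* C c) (hj : ∀ c, j c ≫ b = Spec.map (CommRingCat.ofHom (φ c)) ≫ hU.fromSpec)
    (hcov : ∀ z, z ∈ b ⁻¹ᵁ U → ∃ c, z ∈ (j c).opensRange) (hy : ∀ c, φ c y ∈ idAt (j c) M) :
    y ∈ (M.map b).ideal ⟨U, hU⟩ := by
  show y ∈ (M.subschemeι ≫ b).ker.ideal ⟨U, hU⟩
  rw [Scheme.Hom.ker_apply, RingHom.mem_ker]
  apply M.subscheme.IsSheaf.section_ext
  intro t ht
  obtain ⟨c, hc⟩ := hcov (M.subschemeι t) ht
  have hle : (j c).opensRange ≤ b ⁻¹ᵁ U := by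
    rintro _ ⟨x, rfl⟩
    show b (j c x) ∈ U
    rw [← Scheme.Hom.comp_apply, hj, Scheme.Hom.comp_apply]
    exact hU.range_fromSpec.le ⟨_, rfl⟩
  refine ⟨M.subschemeι ⁻¹ᵁ (j c).opensRange, fun x hx => hle hx, hc, ?_⟩
  let V : X'.affineOpens := ⟨(j c).opensRange, isAffineOpen_opensRange (j c)⟩
  have h0 : b.appLE U V.1 hle y ∈ M.ideal V := by
    have hle' : (⊤ : (Spec (CommRingCat.of (C c))).Opens) ≤ (j c) ⁻¹ᵁ V.1 := by simp [V]
    haveI : IsIso ((j c).appLE V.1 ⊤ hle') := by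
      rw [Scheme.Hom.appLE]
      haveI := Scheme.Hom.isIso_app (j c) V.1 le_rfl
      haveI : IsIso (homOfLE hle') := by
        rw [show homOfLE hle' = eqToHom (by simp [V]) from Subsingleton.elim _ _]
        infer_instance
      infer_instance
    have key : ∀ (f : Spec (CommRingCat.of (C c)) ⟶ X), f = Spec.map (CommRingCat.ofHom (φ c)) ≫ hU.fromSpec →
        ∀ e, f.appLE U ⊤ e = CommRingCat.ofHom (φ c) ≫ (Scheme.ΓSpecIso (CommRingCat.of (C c))).inv := by
      rintro f rfl e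
      have hU' : (⊤ : (Spec Γ(X, U)).Opens) ≤ hU.fromSpec ⁻¹ᵁ U := by rw [hU.fromSpec_preimage_self]
      rw [← Scheme.Hom.appLE_comp_appLE _ _ U ⊤ ⊤ hU' le_top, Scheme.ΓSpecIso_inv_naturality]
      congr 1
      · rw [Scheme.Hom.appLE, hU.fromSpec_app_self, Category.assoc, ← Functor.map_comp]
        exact (congrArg (_ ≫ ·) (CategoryTheory.Functor.map_id _ _)).trans (Category.comp_id _)
    have h1 : (j c).appLE V.1 ⊤ hle' (b.appLE U V.1 hle y) ∈
        (M.comap (j c)).ideal ⟨⊤, isAffineOpen_top _⟩ := by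
      have e : (j c).appLE V.1 ⊤ hle' (b.appLE U V.1 hle y) =
          (Scheme.ΓSpecIso (CommRingCat.of (C c))).inv (φ c y) := by
        rw [← CommRingCat.comp_apply, Scheme.Hom.appLE_comp_appLE, key _ (hj c)]
        rfl
      rw [e, comap_eq_idealOf, idealOf_top]
      exact Ideal.mem_map_of_mem _ (hy c)
    rw [Ideals.comap_ideal (j c) M V ⟨⊤, isAffineOpen_top _⟩ hle'] at h1
    have h3 := Ideal.mem_map_of_mem (inv ((j c).appLE V.1 ⊤ hle')).hom h1
    rw [Ideal.map_map, ← CommRingCat.hom_comp, IsIso.hom_inv_id, CommRingCat.hom_id, Ideal.map_id] at h3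
    convert h3 using 1
    show _ = ((j c).appLE V.1 ⊤ hle' ≫ inv ((j c).appLE V.1 ⊤ hle')) (b.appLE U V.1 hle y)
    rw [IsIso.hom_inv_id]
    rfl
  rw [← M.ker_subschemeι_app V, RingHom.mem_ker] at h0
  rw [map_zero]
  refine Eq.trans ?_ h0
  show ((M.subschemeι ≫ b).app U ≫ M.subscheme.presheaf.map _) y =
    (b.appLE U V.1 hle ≫ M.subschemeι.app V.1) y
  congr 2
  simp only [Scheme.Hom.comp_app, Scheme.Hom.appLE, Category.assoc, Scheme.Hom.naturality]
  rfl

omit hb hU in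
theorem apply_pow_mul_frac {A R : Type u} [CommRing A] [CommRing R] {I : Ideal A} (a : A) (ha : a ∈ I ^ 1)
    (g : Chart I a ha →+* R) (n : ℕ) (y : A) (hy : y ∈ I ^ n) :
    g (chartHom I a ha y) = g (chartHom I a ha a) ^ n * g (frac I a ha n y hy) := by
  have h := congrArg g (pow_mul_frac I a ha n y hy)
  rw [map_mul] at h
  exact h.symm.trans (congrArg (· * _) (map_pow g (chartHom I a ha a) n))

omit hb hU in
theorem clear_denom {C L : Type u} [CommRing C] [CommRing L] [Algebra C L] (α : C) [IsLocalization.Away α L]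
    {J : Ideal C} {η : C} {u x : L} (h : algebraMap C L η = u * x) (hx : x ∈ J.map (algebraMap C L)) :
    ∃ (k₀ k₁ : ℕ) (w : C), w ∈ J ∧ α ^ k₁ * (η * α ^ k₀) = α ^ k₁ * w := by
  obtain ⟨⟨⟨w, hw⟩, ⟨_, k₀, rfl⟩⟩, hwe⟩ := (IsLocalization.mem_map_algebraMap_iff (Submonoid.powers α) L).1
    (show algebraMap C L η ∈ J.map (algebraMap C L) by rw [h]; exact Ideal.mul_mem_left _ _ hx)
  obtain ⟨⟨_, k₁, rfl⟩, hk₁⟩ := (IsLocalization.eq_iff_exists (Submonoid.powers α) L).1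
    (show algebraMap C L (η * α ^ k₀) = algebraMap C L w by rw [map_mul]; exact hwe)
  exact ⟨k₀, k₁, w, hw, hk₁⟩

omit hb hU in
theorem move_arith {C : Type u} [CommRing C] {J : Ideal C} {c α η w : C} (k₀ k₁ d m : ℕ) (hw : w ∈ J)
    (h : α ^ k₁ * (η * α ^ k₀) = α ^ k₁ * w) :
    (c * α) ^ (k₁ + k₀ + d) * (c ^ m * η) ∈ J * Ideal.span {c} ^ (k₁ + k₀ + d + m) := by
  rw [show (c * α) ^ (k₁ + k₀ + d) * (c ^ m * η) = (α ^ d * (α ^ k₁ * (η * α ^ k₀))) * c ^ (k₁ + k₀ + d + m) by ring,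
    h]
  exact Ideal.mul_mem_mul (Ideal.mul_mem_left _ _ (Ideal.mul_mem_left _ _ hw))
    (Ideal.pow_mem_pow (Ideal.mem_span_singleton_self _) _)

omit hb hU in
theorem move_arith' {C : Type u} [CommRing C] (p x : C) {e m n : ℕ} (h : e + m = n) :
    p ^ e * (p ^ m * x) = x * p ^ n := by rw [← h]; ring

omit hb hU in
theorem idAt_exceptional {A : Type u} [CommRing A] {I : Ideal A} {f : Spec (CommRingCat.of A) ⟶ X}
    (hf : idAt f 𝓘 = I) (c : A) (hc : c ∈ I ^ 1) (j : Spec (CommRingCat.of (Chart I c hc)) ⟶ X')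
    (hj : j ≫ b = Spec.map (CommRingCat.ofHom (chartHom I c hc)) ≫ f) :
    idAt j (𝓘.comap b) = Ideal.span {chartHom I c hc c} := by
  rw [idAt_comap, hj, idAt_comp, hf]
  exact map_ideal I c hc

set_option maxHeartbeats 800000 in
include hb in
omit hU in
/-- On the chart of `c` a power of `a` moves a lift of a section of the chart of `a` into the twisted ideal. -/
theorem exists_move {A : Type u} [CommRing A] {I : Ideal A} {f : Spec (CommRingCat.of A) ⟶ X}
    (a : A) (hm : a ∈ I ^ 1) (c : A) (hc : c ∈ I ^ 1) (ja : Spec (CommRingCat.of (Chart I a hm)) ⟶ X')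
    (jc : Spec (CommRingCat.of (Chart I c hc)) ⟶ X') [IsOpenImmersion jc]
    (hja : ja ≫ b = Spec.map (CommRingCat.ofHom (chartHom I a hm)) ≫ f)
    (hjc : jc ≫ b = Spec.map (CommRingCat.ofHom (chartHom I c hc)) ≫ f)
    (J : X'.IdealSheafData) (m : ℕ) (y : A) (hy : y ∈ I ^ m) (hx : frac I a hm m y hy ∈ idAt ja J) :
    ∃ k₀, ∀ k, k₀ ≤ k →
      chartHom I c hc (a ^ k * y) ∈ idAt jc J * Ideal.span {chartHom I c hc c} ^ (k + m) := by
  let α := frac I c hc 1 a hm
  let η := frac I c hc m y hy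
  let L := Localization.Away α
  let qc : Chart I c hc →+* L := algebraMap _ L
  let φc := chartHom I c hc
  have hnc : qc (φc c) ∈ nonZeroDivisors L :=
    IsLocalization.map_nonZeroDivisors_le (Submonoid.powers α) L
      (Submonoid.mem_map.2 ⟨_, chartHom_nonZeroDivisor I c hc, rfl⟩)
  have hαu : IsUnit (qc α) := IsLocalization.Away.algebraMap_isUnit α
  have ha : φc a = φc c * α := chartHom_eq I c hc a hm
  have hna : qc (φc a) ∈ nonZeroDivisors L := by
    rw [ha, map_mul]; exact mul_mem hnc hαu.mem_nonZeroDivisors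
  obtain ⟨qa, hqa⟩ := exists_chart_lift I a hm (qc.comp φc) hna fun w hw => by
    show qc (φc a) ∣ qc (φc w)
    rw [ha, map_mul, show φc w = φc c * _ from chartHom_eq I c hc w (by simpa using hw), map_mul]
    exact mul_dvd_mul_left _ (hαu.dvd)
  let s : Spec (CommRingCat.of L) ⟶ X' := Spec.map (CommRingCat.ofHom qc) ≫ jc
  haveI : IsOpenImmersion (Spec.map (CommRingCat.ofHom qc)) := IsOpenImmersion.of_isLocalization α
  have hsE : BlowUp.IsEffCartierIdeal (𝓘.comap (s ≫ b)) := by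
    rw [Scheme.IdealSheafData.comap_comp]
    exact Ideals.isEffCartier_comap_of_flat _ hb.1
  have heq : Spec.map (CommRingCat.ofHom qa) ≫ ja = s := by
    refine (hb.2 _ (s ≫ b) hsE).unique ?_ rfl
    show (_ ≫ ja) ≫ b = (_ ≫ jc) ≫ b
    rw [Category.assoc, hja, Category.assoc, hjc, ← Category.assoc, ← Category.assoc, ← Spec.map_comp,
      ← Spec.map_comp, ← CommRingCat.ofHom_comp, ← CommRingCat.ofHom_comp, hqa]
  have hJL : (idAt ja J).map qa = (idAt jc J).map qc := by rw [← idAt_comp, ← idAt_comp, heq]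
  have hx' : qa (frac I a hm m y hy) ∈ (idAt jc J).map qc := hJL ▸ Ideal.mem_map_of_mem qa hx
  have hη : qc η = qc α ^ m * qa (frac I a hm m y hy) := by
    apply (mul_cancel_left_mem_nonZeroDivisors (pow_mem hnc m)).1
    have e2 : qa (chartHom I a hm y) = qc (φc y) := RingHom.congr_fun hqa y
    have e3 : qa (chartHom I a hm a) = qc (φc c) * qc α := by
      rw [← map_mul, ← ha]; exact RingHom.congr_fun hqa a
    rw [apply_pow_mul_frac a hm qa m y hy, e3, show qc (φc y) = qc (φc c) ^ m * qc η from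
      apply_pow_mul_frac c hc qc m y hy, mul_pow, mul_assoc] at e2
    exact e2.symm
  obtain ⟨k₀, k₁, w, hw, hk₁⟩ := clear_denom α (J := idAt jc J) hη hx'
  refine ⟨k₁ + k₀, fun k hk => ?_⟩
  obtain ⟨d, rfl⟩ := Nat.exists_eq_add_of_le hk
  have hcy : φc y = φc c ^ m * η := apply_pow_mul_frac c hc (RingHom.id _) m y hy
  rw [map_mul, map_pow, show chartHom I c hc a = φc c * α from ha, show chartHom I c hc y = φc c ^ m * η from hcy]
  exact move_arith k₀ k₁ d m hw hk₁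

set_option maxHeartbeats 1000000 in
include hb in
/-- Near every point, an ideal twisted by a power of the exceptional ideal is spanned from the base. -/
theorem exists_local [CompactSpace X] [QuasiSeparatedSpace X] (h𝓘 : BlowUp.IsFiniteTypeIdeal 𝓘)
    {J : X'.IdealSheafData} (hJ : BlowUp.IsFiniteTypeIdeal J) (z : X') :
    ∃ (V : X'.affineOpens) (n : ℕ) (K : X.IdealSheafData), z ∈ V.1 ∧ FGOn K ⊤ ∧
      K ≤ (J * 𝓘.comap b ^ (n + 1)).map b ∧ (J * 𝓘.comap b ^ (n + 1)).ideal V ≤ (K.comap b).ideal V := by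
  classical
  haveI := isProper_blowUp hb h𝓘
  obtain ⟨_, ⟨U, hU, rfl⟩, hzU, -⟩ :=
    X.isBasis_affineOpens.exists_subset_of_mem_open (Set.mem_univ (b z)) isOpen_univ
  let I := 𝓘.ideal ⟨U, hU⟩
  obtain ⟨g, hg⟩ := h𝓘 ⟨U, hU⟩
  have hm : ∀ c : g, c.1 ∈ I ^ 1 := fun c => by simpa using hg.le (Ideal.subset_span c.2)
  obtain ⟨j, hjo, hcov, hj⟩ := exists_charts hb hU g hg hm
  obtain ⟨a, hza⟩ := hcov z hzU
  let φ := fun c : g => chartHom I c.1 (hm c)
  let E := 𝓘.comap b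
  have hE : ∀ c, idAt (j c) E = Ideal.span {φ c c.1} := fun c =>
    idAt_exceptional (idAt_ι hU 𝓘) c.1 (hm c) (j c) (hj c)
  obtain ⟨G, hG⟩ : (idAt (j a) J).FG := by
    refine Ideal.FG.map ?_ _
    have hle : (⊤ : (Spec (CommRingCat.of _)).Opens) ≤ (j a) ⁻¹ᵁ (j a).opensRange := by simp
    rw [Ideals.comap_ideal (j a) J ⟨_, isAffineOpen_opensRange (j a)⟩ ⟨⊤, isAffineOpen_top _⟩ hle]
    exact (hJ _).map _
  choose m y hy hfrac using fun x : G => frac_surjective I a.1 (hm a) x.1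
  have hyE : ∀ x : G, φ a (y x) = φ a a.1 ^ m x * x.1 := fun x =>
    (apply_pow_mul_frac a.1 (hm a) (RingHom.id _) (m x) (y x) (hy x)).trans (congrArg (_ * ·) (hfrac x))
  have key : ∀ (x : G) (c : g), ∃ k₀, ∀ k, k₀ ≤ k →
      φ c (a.1 ^ k * y x) ∈ idAt (j c) J * Ideal.span {φ c c.1} ^ (k + m x) := fun x c =>
    exists_move hb a.1 (hm a) c.1 (hm c) (j a) (j c) (hj a) (hj c) J (m x) (y x) (hy x)
      (by rw [hfrac x]; exact hG.le (Ideal.subset_span x.2))
  choose k₀ hk₀ using key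
  let N := (Finset.univ.sup fun p : G × g => k₀ p.1 p.2) + (Finset.univ.sup fun x : G => m x)
  let n := N
  have hmem : ∀ x : G, a.1 ^ (n + 1 - m x) * y x ∈
      ((J * E ^ (n + 1)).map b).ideal ⟨U, hU⟩ := fun x => by
    have h1 : m x ≤ Finset.univ.sup fun x : G => m x := Finset.le_sup (f := fun x : G => m x) (Finset.mem_univ x)
    refine mem_map_of_charts hU _ _ _ j φ hj hcov fun c => ?_
    have h2 : k₀ x c ≤ Finset.univ.sup fun p : G × g => k₀ p.1 p.2 :=
      Finset.le_sup (f := fun p : G × g => k₀ p.1 p.2) (Finset.mem_univ (x, c))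
    rw [idAt_mul, idAt_pow_succ, hE]
    have h3 := hk₀ x c (n + 1 - m x) (by omega)
    rwa [Nat.sub_add_cancel (by omega)] at h3
  choose K hKle hKfg hKmem using fun x : G => exists_fgOn_mem _ ⟨U, hU⟩ (hmem x)
  refine ⟨⟨(j a).opensRange, isAffineOpen_opensRange _⟩, n, Finset.univ.sup K, hza,
    ?_, Finset.sup_le fun x _ => hKle x, ideal_le_of_idAt (j a) ?_⟩
  · exact Finset.sup_induction (p := fun K => FGOn K ⊤) (Groth.L19.Approx.fgOn_bot ⊤)
      (fun _ h _ h' => Groth.L19.Approx.FGOn.sup h h') fun x _ => hKfg x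
  · rw [idAt_mul, idAt_pow_succ, hE, ← hG, Ideal.span_singleton_pow, Ideal.span_mul_span', Ideal.span_le]
    rintro _ ⟨x, hx, _, rfl, rfl⟩
    have h4 : φ a (a.1 ^ (n + 1 - m ⟨x, hx⟩) * y ⟨x, hx⟩) ∈ idAt (j a) ((Finset.univ.sup K).comap b) := by
      refine idAt_mono (j a) (Scheme.IdealSheafData.comap_mono b (Finset.le_sup (f := K) (Finset.mem_univ ⟨x, hx⟩))) ?_
      show _ ∈ idAt (j a) ((K ⟨x, hx⟩).comap b)
      rw [idAt_comap, hj a, idAt_comp, idAt_ι hU]
      exact Ideal.mem_map_of_mem _ (hKmem _)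
    have h5 : m ⟨x, hx⟩ ≤ n + 1 := by
      have := Finset.le_sup (f := fun x : G => m x) (Finset.mem_univ (⟨x, hx⟩ : G))
      simp only [n, N]; omega
    rw [map_mul, map_pow, hyE, move_arith' _ _ (Nat.sub_add_cancel h5)] at h4
    exact h4

end Groth.L06.BlowComp
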